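/-
S2858, claim (N), package NL2 (helper72): `C_L(D) ≤ D` for `D = Q ⊓ S`.

Proof.  Let `c ∈ L` centralize `D`.  For `q ∈ Q` the element `d = q⁻¹ (c q c⁻¹)` lies in `D`
(`D` has index two in `Q`), so `c^k q c^{-k} = q d^k` and `c^{|T|}` centralizes `Q`, hence lies
in `Q`: the subgroup `C = C_L(D)` is a 2-group.  It is normal in `P`, so `T C` is a 2-subgroup of
`P` containing `T`, i.e. `C ≤ T` (`T` is maximal in `P` and `P` is not a 2-group).  For `h ∈ P ∖ T`
both `c` and `h c h⁻¹` lie in `T`, so `c ∈ Q`, and `L ⊓ Q ≤ S`.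
-/
import Cfsg.Agent.Lib.Helper45.S3Amal.NDefs

set_option autoImplicit false

namespace Cfsg.Agent.Lib.Helper72.S3Amal

open Cfsg.Agent.Lib.Helper71.Sym Cfsg.Agent.Lib.Helper45.S3Amal

universe u

/-- Product criterion for a subgroup of index two (given by cardinalities). -/
theorem mul_mem_iff_of_card_two {G : Type*} [Group G] {S T : Subgroup G} (hST : S ≤ T)
    (hpos : 0 < Nat.card ↥S) (hcard : Nat.card ↥T = 2 * Nat.card ↥S) {a b : G} (ha : a ∈ T)
    (hb : b ∈ T) : a * b ∈ S ↔ (a ∈ S ↔ b ∈ S) := by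
  have h1 : S.relIndex T = 2 := by
    have h := Subgroup.relIndex_mul_relIndex (⊥ : Subgroup G) S T bot_le hST
    rw [Subgroup.relIndex_bot_left, Subgroup.relIndex_bot_left, hcard] at h
    have : Nat.card ↥S * S.relIndex T = Nat.card ↥S * 2 := by rw [h]; ring
    exact Nat.eq_of_mul_eq_mul_left hpos this
  have h2 : (S.subgroupOf T).index = 2 := h1
  have h3 := Subgroup.mul_mem_iff_of_index_two h2 (a := (⟨a, ha⟩ : T)) (b := ⟨b, hb⟩)
  simpa [Subgroup.mem_subgroupOf] using h3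

/-- Package NL2. -/
theorem pkgNL2 : PkgNL2.{u} := by
  intro G _ P T Q S L hA hZF hST hTS _hSQ hnD _hSL hLP hnL _hLcard hLQ c hcL hcD
  have : Fact (Nat.Prime 2) := ⟨Nat.prime_two⟩
  have hfinP : Finite ↥P := hA.fin
  have hfinT : Finite ↥T :=
    Finite.of_injective (Subgroup.inclusion hA.hTH) (Subgroup.inclusion_injective _)
  have hfinS : Finite ↥S :=
    Finite.of_injective (Subgroup.inclusion hST) (Subgroup.inclusion_injective _)
  have hSpos : 0 < Nat.card ↥S := Nat.card_pos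
  -- Step A: `c ^ |T| ∈ Q` for every `c ∈ L` centralizing `D`
  have key : ∀ c ∈ L, (∀ d ∈ Q ⊓ S, c * d = d * c) → c ^ Nat.card ↥T ∈ Q := by
    intro c hcL hcD
    have hcP : c ∈ P := hLP hcL
    apply hA.hCQ _ (P.pow_mem hcP _)
    intro q hq
    have hcq : c * q * c⁻¹ ∈ Q := hA.hQn c hcP q hq
    have hd : q⁻¹ * (c * q * c⁻¹) ∈ Q ⊓ S := by
      refine Subgroup.mem_inf.mpr ⟨Q.mul_mem (Q.inv_mem hq) hcq, ?_⟩
      by_cases hqS : q ∈ S
      · have h1 := hcD q ⟨hq, hqS⟩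
        have h2 : q⁻¹ * (c * q * c⁻¹) = 1 := by rw [h1]; group
        rw [h2]
        exact S.one_mem
      · have hcqS : c * q * c⁻¹ ∉ S := by
          intro hc
          have h1 := hcD _ ⟨hcq, hc⟩
          have h2 : c * (c * q * c⁻¹) * c⁻¹ = c * q * c⁻¹ := by rw [h1]; group
          have h3 : c * q * c⁻¹ = q := by
            calc c * q * c⁻¹ = c⁻¹ * (c * (c * q * c⁻¹) * c⁻¹) * c := by group
              _ = c⁻¹ * (c * q * c⁻¹) * c := by rw [h2]
              _ = q := by group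
          rw [h3] at hc
          exact hqS hc
        have hqT : q⁻¹ ∈ T := T.inv_mem (hA.hQT hq)
        have hcqT : c * q * c⁻¹ ∈ T := hA.hQT hcq
        rw [mul_mem_iff_of_card_two hST hSpos hTS hqT hcqT]
        constructor
        · intro h
          exact absurd (by simpa using S.inv_mem h) hqS
        · intro h
          exact absurd h hcqS
    obtain ⟨d, hd_def⟩ : ∃ d, d = q⁻¹ * (c * q * c⁻¹) := ⟨_, rfl⟩
    rw [← hd_def] at hd
    have hcd : Commute c d := hcD d hd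
    have hconj : c * q = q * d * c := by rw [hd_def]; group
    have hpow : ∀ k : ℕ, c ^ k * q = q * d ^ k * c ^ k := by
      intro k
      induction k with
      | zero => simp
      | succ k ih =>
        have hcdk : c * d ^ k = d ^ k * c := (hcd.pow_right k).eq
        calc c ^ (k + 1) * q = c * (c ^ k * q) := by rw [pow_succ', mul_assoc]
          _ = c * (q * d ^ k * c ^ k) := by rw [ih]
          _ = (c * q) * d ^ k * c ^ k := by simp only [mul_assoc]
          _ = (q * d * c) * d ^ k * c ^ k := by rw [hconj]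
          _ = q * d * (c * d ^ k) * c ^ k := by simp only [mul_assoc]
          _ = q * d * (d ^ k * c) * c ^ k := by rw [hcdk]
          _ = q * d ^ (k + 1) * c ^ (k + 1) := by
            rw [pow_succ', pow_succ']
            simp only [mul_assoc]
    have hdT : d ^ Nat.card ↥T = 1 := by
      have h1 : (⟨d, hST hd.2⟩ : T) ^ Nat.card ↥T = 1 := pow_card_eq_one'
      exact congrArg Subtype.val h1
    have h4 := hpow (Nat.card ↥T)
    rw [hdT, mul_one] at h4
    exact h4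
  obtain ⟨n, hn⟩ := IsPGroup.iff_card.mp hA.hT2
  obtain ⟨C, hC⟩ : ∃ C : Subgroup G,
      C = L ⊓ Subgroup.centralizer ((Q ⊓ S : Subgroup G) : Set G) := ⟨_, rfl⟩
  have hCmem : ∀ x, x ∈ C ↔ x ∈ L ∧ ∀ d ∈ Q ⊓ S, x * d = d * x := by
    intro x
    rw [hC, Subgroup.mem_inf, Subgroup.mem_centralizer_iff]
    constructor
    · rintro ⟨h1, h2⟩
      exact ⟨h1, fun d hd => (h2 d hd).symm⟩
    · rintro ⟨h1, h2⟩
      exact ⟨h1, fun d hd => (h2 d hd).symm⟩
  have hC2 : IsPGroup 2 ↥C := by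
    intro g
    obtain ⟨hgL, hgD⟩ := (hCmem g).mp g.2
    have h1 := key g hgL hgD
    have h2 : ((g : G) ^ Nat.card ↥T) ^ Nat.card ↥T = 1 := by
      have h3 : (⟨(g : G) ^ Nat.card ↥T, hA.hQT h1⟩ : T) ^ Nat.card ↥T = 1 := pow_card_eq_one'
      exact congrArg Subtype.val h3
    refine ⟨n + n, ?_⟩
    apply Subtype.ext
    rw [Subgroup.coe_pow, Subgroup.coe_one, pow_add, pow_mul, ← hn]
    exact h2
  -- `C` is `P`-invariant
  have hCP : ∀ p ∈ P, ∀ x ∈ C, p * x * p⁻¹ ∈ C := by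
    intro p hp x hx
    obtain ⟨hxL, hxD⟩ := (hCmem x).mp hx
    refine (hCmem _).mpr ⟨hnL p hp x hxL, fun d hd => ?_⟩
    have hd' : p⁻¹ * d * p⁻¹⁻¹ ∈ Q ⊓ S := hnD p⁻¹ (P.inv_mem hp) d hd
    have h1 := hxD _ hd'
    calc p * x * p⁻¹ * d = p * (x * (p⁻¹ * d * p⁻¹⁻¹)) * p⁻¹ := by group
      _ = p * ((p⁻¹ * d * p⁻¹⁻¹) * x) * p⁻¹ := by rw [h1]
      _ = d * (p * x * p⁻¹) := by group
  have hTC : T ≤ Subgroup.normalizer (C : Set G) := by
    intro t ht
    rw [Subgroup.mem_normalizer_iff]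
    intro x
    constructor
    · intro hx
      exact hCP t (hA.hTH ht) x hx
    · intro hx
      have h1 := hCP t⁻¹ (P.inv_mem (hA.hTH ht)) _ hx
      have e : t⁻¹ * (t * x * t⁻¹) * t⁻¹⁻¹ = x := by group
      rwa [e] at h1
  have hTC2 : IsPGroup 2 ↥(T ⊔ C) := hA.hT2.to_sup_of_normal_right' hC2 hTC
  have hCL : C ≤ L := by rw [hC]; exact inf_le_left
  have hCT : C ≤ T := by
    have hle : T ⊔ C ≤ P := sup_le hA.hTH (hCL.trans hLP)
    rcases hZF.maxT (T ⊔ C) le_sup_left hle with h | h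
    · rw [← h]
      exact le_sup_right
    · exfalso
      rw [h] at hTC2
      obtain ⟨m, hm⟩ := IsPGroup.iff_card.mp hTC2
      rw [hA.hHT, hn] at hm
      have h3 : 3 ∣ 2 ^ m := ⟨2 ^ n, hm.symm⟩
      have h4 := Nat.Prime.dvd_of_dvd_pow Nat.prime_three h3
      omega
  obtain ⟨h, hhP, t, ht, hht⟩ := hA.hTn
  have hhT : h ∉ T := fun hc => hht (T.mul_mem (T.mul_mem hc ht) (T.inv_mem hc))
  have hcC : c ∈ C := (hCmem c).mpr ⟨hcL, hcD⟩
  have hcQ : c ∈ Q := hZF.inter h hhP hhT c (hCT hcC) (hCT (hCP h hhP c hcC))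
  exact ⟨hcQ, hLQ ⟨hcL, hcQ⟩⟩

end Cfsg.Agent.Lib.Helper72.S3Amal
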